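import Cfsg.Agent.Lib.Spor.TC.Steps
import Cfsg.Agent.Lib.Spor.HeldRecog.Enum.PN.Part0

/-!
The assembled certificate.
-/

set_option autoImplicit false

namespace CfsgLib.Spor.HeldRecog.Enum.PN

open CfsgLib.Spor.TC

theorem steps_ok : cert.StepsOK 0 322 :=
  steps0

theorem rows_ok : cert.RowsOK 322 45 0 45 :=
  rows0

theorem row_zero : cert.rowNode 0 = 0 := by decide +kernel

/-- The certificate, for the relators as powers of words. -/
noncomputable def cosetCert : CosetCert 6 relsN [0, 1, 2, 3, 4] 45 :=
  ⟨cert, 322, steps_ok, rows_ok, row_zero, by decide, rfl, rfl, by decide +kernel⟩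

end CfsgLib.Spor.HeldRecog.Enum.PN
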